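import Cfsg.Agent.H22.DPi.Core
import Cfsg.Agent.H571.DExtD

/-!
# A subgroup normalised by `P` and `K`: all its `π`-subgroups are nilpotent (helper22)
-/

set_option autoImplicit false

namespace Cfsg.Agent.H22.DPU

open Subgroup Cfsg Cfsg.Agent.H988.CPi Cfsg.Agent.H571.RV Cfsg.Agent.H817.DPi Cfsg.Agent.H22.DPi
open scoped Pointwise

universe u

/-- nilpotency modulo the centre -/
theorem nil_of_center {M : Type*} [Group M] {R : Subgroup M}
    (h : Group.IsNilpotent (R.map (QuotientGroup.mk' (center M)))) : Group.IsNilpotent R := by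
  let f : R →* R.map (QuotientGroup.mk' (center M)) := (QuotientGroup.mk' (center M)).subgroupMap R
  refine @Subgroup.isNilpotent_of_ker_le_center _ _ _ _ f ?_ h
  intro x hx
  have h5 : QuotientGroup.mk' (center M) (x : M) = 1 := congrArg Subtype.val hx
  have h6 : (x : M) ∈ center M := (QuotientGroup.eq_one_iff _).1 h5
  rw [mem_center_iff] at h6 ⊢
  intro y
  exact Subtype.ext (h6 y)

/-- nilpotency of subgroups of conjugates -/
theorem nil_of_le_conj {X : Type*} [Group X] {H R : Subgroup X} (hH : Group.IsNilpotent H) {x : X}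
    (h : R ≤ MulAut.conj x • H) : Group.IsNilpotent R := by
  have h1 : Group.IsNilpotent ↥(MulAut.conj x • H) := by
    have e : H ≃* ↥(MulAut.conj x • H) := Subgroup.equivSMul (MulAut.conj x) H
    exact Group.nilpotent_of_mulEquiv e
  refine @Subgroup.isNilpotent_of_ker_le_center _ _ _ _ (Subgroup.inclusion h) ?_ h1
  intro y hy
  have h2 : y = 1 := Subgroup.inclusion_injective h (by rw [map_one]; exact hy)
  rw [h2]
  exact one_mem _

theorem nil_of_injective {X Y : Type*} [Group X] [Group Y] {f : X →* Y} (hf : Function.Injective f)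
    (h : Group.IsNilpotent Y) : Group.IsNilpotent X := by
  refine @Subgroup.isNilpotent_of_ker_le_center _ _ _ _ f ?_ h
  rw [(MonoidHom.ker_eq_bot_iff f).2 hf]
  exact bot_le

theorem nil_of_surj {X Y : Type*} [Group X] [Group Y] {f : X →* Y} (hf : Function.Surjective f)
    (h : Group.IsNilpotent X) : Group.IsNilpotent Y := Group.nilpotent_of_surjective f hf

/-- **The core of the argument.** -/
theorem nil_of_core {π : Set ℕ} {G : Type u} [Group G] [Finite G] {P M : Subgroup G} {K : Subgroup (MulAut G)}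
    (hP : IsPiHall π P) (hI : IH π P K) (hM : M ≠ ⊤)
    (hPM : P ≤ normalizer (M : Set G)) (hKM : K ≤ stab M) (hs : IsSimpleGroup (↥M ⧸ center ↥M))
    (hna : ¬ IsMulCommutative (↥M ⧸ center ↥M))
    (hX : Cls π (↥M ⧸ center ↥M) → ∀ P' : Subgroup (↥M ⧸ center ↥M), IsPiHall π P' → Group.IsNilpotent P')
    (R : Subgroup M) (hR : PiN π (Nat.card R)) : Group.IsNilpotent R := by
  have h1 := hX (hI M hM hPM hKM _ hna (QuotientGroup.mk' (center ↥M)) (QuotientGroup.mk'_surjective _))
  have h2 := hall_inf hP hPM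
  have h3 := isPiHall_map_mk h2 (center ↥M)
  obtain ⟨x, hx⟩ := Cfsg.Agent.H571.DExt.le_conj_nilpotent h3 (h1 _ h3)
    (K := R.map (QuotientGroup.mk' (center ↥M))) (hR.of_dvd (card_map_dvd R _))
  exact nil_of_center (nil_of_le_conj (h1 _ h3) hx)

end Cfsg.Agent.H22.DPU
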