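import Cfsg.Agent.H22.DPU.Mat
import Cfsg.Agent.H715.DPU.Def

/-!
# The subgroup `SU(W)` and restrictions (helper22)
-/

set_option autoImplicit false

namespace Cfsg.Agent.H22.DPU

open Cfsg Matrix Module Cfsg.Agent.LieClassical.HermBasic Cfsg.Agent.LieClassical.HermSiegel
  Cfsg.Agent.LieClassical.HermGen Cfsg.Agent.ClassicalGeometry.HermOrtho
open Cfsg.Agent.ClassicalGeometry.PSUAutCount (gm gm_mul gm_one gm_inj herm_gm gm_inv_mulVec gm_mulVec_inv)

variable {F : Type*} [Field F] {q n m : ℕ} {b : Fin m → (Fin n → F)}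

section fin

variable [Fintype F] (hF : Fintype.card F = q ^ 2)

/-- extension `SU_m → SU_n` -/
def extS (hb : ON q b) : SU m F q →* SU n F q where
  toFun g := ⟨⟨Em q b (mat g), by rw [hb.det_Em]; exact g.1.2⟩,
    (LieClassical.SUBasic.mem_SU_iff _).2 (hb.herm_Em hF (fun u v => (LieClassical.SUBasic.mem_SU_iff _).1 g.2 u v))⟩
  map_one' := Subtype.ext (Subtype.ext Em_one)
  map_mul' g h := Subtype.ext (Subtype.ext (hb.Em_mul (mat g) (mat h)))

theorem mat_extS (hb : ON q b) (g : SU m F q) : mat (extS hF hb g) = Em q b (mat g) := rfl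

theorem act_extS (hb : ON q b) (g : SU m F q) (v : Fin n → F) : act (extS hF hb g) v = Em q b (mat g) *ᵥ v := rfl

theorem extS_injective (hb : ON q b) : Function.Injective (extS hF hb) := by
  intro g h hgh
  apply ext_act
  intro c
  have h1 := congrArg (fun x => act x (Jm b *ᵥ c)) hgh
  simp only [act_extS, hb.Em_J] at h1
  have h2 := congrArg (fun v => Pm q b *ᵥ v) h1
  simp only [hb.PJ_mulVec] at h2
  exact h2

/-- elements preserving the span of `b` -/
def Pr (q : ℕ) (b : Fin m → (Fin n → F)) (A : Matrix (Fin n) (Fin n) F) : Prop :=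
  ∀ c : Fin m → F, A *ᵥ (Jm b *ᵥ c) = Jm b *ᵥ (Pm q b *ᵥ (A *ᵥ (Jm b *ᵥ c)))

include hF in
theorem herm_restr (hb : ON q b) {A : GU n F q} (hA : Pr q b (gm A)) (u v : Fin m → F) :
    hermForm m F q ((Pm q b * gm A * Jm b) *ᵥ u) ((Pm q b * gm A * Jm b) *ᵥ v) = hermForm m F q u v := by
  rw [← Matrix.mulVec_mulVec, ← Matrix.mulVec_mulVec, ← Matrix.mulVec_mulVec, ← Matrix.mulVec_mulVec,
    ← herm_J hF, ← hA, herm_gm, herm_J hF, hb.PJ_mulVec]

/-- the restriction of a subgroup of `GU_n` -/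
noncomputable def rG (hb : ON q b) (H : Subgroup (GU n F q)) (hH : ∀ g ∈ H, Pr q b (gm g)) : H →* GU m F q :=
  ((MonoidHom.toHomUnits
    { toFun := fun h : H => Pm q b * gm (h : GU n F q) * Jm b
      map_one' := by
        rw [Subgroup.coe_one, gm_one, Matrix.mul_one, hb.PJ]
      map_mul' := fun h k => by
        apply Matrix.mulVec_injective
        funext c
        rw [Subgroup.coe_mul, gm_mul]
        simp only [← Matrix.mulVec_mulVec]
        rw [← hH k k.2 c] } : H →* (Matrix (Fin m) (Fin m) F)ˣ)).codRestrict (GU m F q)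
    (fun h => fun u v => herm_restr hF hb (hH h h.2) u v)

theorem gm_rG (hb : ON q b) (H : Subgroup (GU n F q)) (hH : ∀ g ∈ H, Pr q b (gm g)) (h : H) :
    gm (rG hF hb H hH h) = Pm q b * gm (h : GU n F q) * Jm b := rfl

theorem rG_eq_one (hb : ON q b) (H : Subgroup (GU n F q)) (hH : ∀ g ∈ H, Pr q b (gm g)) {h : H}
    (h1 : rG hF hb H hH h = 1) (c : Fin m → F) : gm (h : GU n F q) *ᵥ (Jm b *ᵥ c) = Jm b *ᵥ c := by
  have h2 := congrArg gm h1
  rw [gm_rG, gm_one] at h2
  rw [hH h h.2 c]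
  have h3 : Pm q b *ᵥ (gm (h : GU n F q) *ᵥ (Jm b *ᵥ c)) = c := by
    rw [Matrix.mulVec_mulVec, Matrix.mulVec_mulVec, h2, Matrix.one_mulVec]
  rw [h3]

/-- an orthonormal basis of `W` -/
structure Bs (q : ℕ) (W : Submodule F (Fin n → F)) (b : Fin m → (Fin n → F)) : Prop where
  on : ON q b
  mem : ∀ i, b i ∈ W
  fr : finrank F W = m

variable {W : Submodule F (Fin n → F)}

omit [Fintype F] in
theorem Bs.J_mem (h : Bs q W b) (c : Fin m → F) : Jm b *ᵥ c ∈ W := by
  rw [Jm_mulVec]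
  exact W.sum_mem fun i _ => W.smul_mem _ (h.mem i)

omit [Fintype F] in
theorem Bs.JP (h : Bs q W b) {v : Fin n → F} (hv : v ∈ W) : Jm b *ᵥ (Pm q b *ᵥ v) = v := by
  rw [Jm_mulVec]
  have h1 := eq_sum_of_orthonormal W (by rw [h.fr, Fintype.card_fin]) h.mem h.on hv
  rw [eq_comm]
  refine h1.trans ?_
  exact Finset.sum_congr rfl fun k _ => by rw [Pm_mulVec]

include hF in
theorem Bs.perp (h : Bs q W b) {v : Fin n → F} : v ∈ hermPerp q (W : Set (Fin n → F)) ↔ Pm q b *ᵥ v = 0 := by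
  constructor
  · intro hv
    funext k
    rw [Pm_mulVec]
    exact hv (b k) (h.mem k)
  · intro hv w hw
    rw [← h.JP hw, herm_J' hF, hv, herm_zero_left]

omit [Fintype F] in
theorem Bs.pr (h : Bs q W b) {A : Matrix (Fin n) (Fin n) F} (hA : ∀ w ∈ W, A *ᵥ w ∈ W) : Pr q b A := by
  intro c
  rw [h.JP (hA _ (h.J_mem c))]

/-- the elements of `SU_n` fixing `U` pointwise -/
def fixS (q : ℕ) (U : Submodule F (Fin n → F)) : Subgroup (SU n F q) where
  carrier := {g | ∀ v ∈ U, act g v = v}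
  one_mem' := fun v _ => act_one v
  mul_mem' {g h} hg hh := fun v hv => by rw [act_mul, hh v hv, hg v hv]
  inv_mem' {g} hg := fun v hv => by
    nth_rewrite 1 [← hg v hv]
    rw [act_inv_act]

omit [Fintype F] in
theorem mem_fixS {U : Submodule F (Fin n → F)} {g : SU n F q} : g ∈ fixS q U ↔ ∀ v ∈ U, act g v = v := Iff.rfl

/-- the copy of `SU_m` is the group of the elements fixing the orthogonal space -/
theorem Bs.range_extS (h : Bs q W b) (hnd : ∀ u ∈ W, (∀ v ∈ W, hermForm n F q u v = 0) → u = 0) :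
    (extS hF h.on).range = fixS q (hermPerp q (W : Set (Fin n → F))) := by
  apply le_antisymm
  · rintro _ ⟨g, rfl⟩ v hv
    rw [act_extS]
    exact Em_of_P _ ((h.perp hF).1 hv)
  · intro g hg
    have hgW : ∀ w ∈ W, act g w ∈ W := by
      intro w hw
      -- `W` is the orthogonal space of `W^⊥`
      obtain ⟨w', hw', u, hu, hwu⟩ := exists_add_perp hF W hnd (act g w)
      have hu0 : u = 0 := by
        apply hermPerp_nondeg hF W hnd u hu
        intro v hv
        have h1 : hermForm n F q (act g w) v = 0 := by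
          nth_rewrite 1 [← hg v hv]
          rw [herm_act]
          exact herm_eq_zero_swap hF (hv w hw)
        rw [hwu, herm_add_left, herm_eq_zero_swap hF (hv w' hw'), zero_add] at h1
        exact h1
      rw [hwu, hu0, add_zero]
      exact hw'
    have hPr : Pr q b (mat g) := h.pr hgW
    obtain ⟨M, hM⟩ : ∃ M, M = Pm q b * mat g * Jm b := ⟨_, rfl⟩
    have hE : Em q b M = mat g := by
      apply Matrix.mulVec_injective
      funext v
      obtain ⟨w, hw, u, hu, rfl⟩ := exists_add_perp hF W hnd v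
      have e1 : mat g *ᵥ u = u := hg u hu
      rw [Matrix.mulVec_add, Matrix.mulVec_add, Em_of_P _ ((h.perp hF).1 hu), e1]
      congr 1
      nth_rewrite 1 [← h.JP hw]
      rw [h.on.Em_J, hM, ← Matrix.mulVec_mulVec, ← Matrix.mulVec_mulVec, ← hPr, h.JP hw]
    have hdet : M.det = 1 := by
      rw [← h.on.det_Em, hE]
      exact g.1.2
    have hiso : ∀ u v, hermForm m F q (M *ᵥ u) (M *ᵥ v) = hermForm m F q u v := by
      intro u v
      have h1 : hermForm n F q (mat g *ᵥ (Jm b *ᵥ u)) (mat g *ᵥ (Jm b *ᵥ v)) =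
          hermForm n F q (Jm b *ᵥ u) (Jm b *ᵥ v) := herm_act g _ _
      rw [← hE, h.on.Em_J, h.on.Em_J, herm_J hF, herm_J hF, h.on.PJ_mulVec, h.on.PJ_mulVec] at h1
      exact h1
    refine ⟨⟨⟨M, hdet⟩, (LieClassical.SUBasic.mem_SU_iff _).2 hiso⟩, ?_⟩
    apply mat_injective
    rw [mat_extS]
    exact hE

end fin

end Cfsg.Agent.H22.DPU
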