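import Cfsg.Agent.ClassicalGeometry.HermOrtho
import Cfsg.Agent.ClassicalGeometry.PSUAutCount

/-!
# Orthonormal systems: extension `SU_m → SU_n` and restriction (helper22)
-/

set_option autoImplicit false

namespace Cfsg.Agent.H22.DPU

open Cfsg Matrix Module Cfsg.Agent.LieClassical.HermBasic Cfsg.Agent.LieClassical.SUBasic
  Cfsg.Agent.ClassicalGeometry.HermOrtho
open Cfsg.Agent.ClassicalGeometry.PSUAutCount (gm gm_mul gm_one gm_inj herm_gm gm_inv_mulVec gm_mulVec_inv)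

variable {F : Type*} [Field F] {q n m : ℕ}

/-- orthonormal systems -/
def ON (q : ℕ) (b : Fin m → (Fin n → F)) : Prop := ∀ i j, hermForm n F q (b i) (b j) = if i = j then 1 else 0

/-- the matrix of the embedding -/
def Jm (b : Fin m → (Fin n → F)) : Matrix (Fin n) (Fin m) F := Matrix.of fun i k => b k i

/-- the matrix of the projection -/
def Pm (q : ℕ) (b : Fin m → (Fin n → F)) : Matrix (Fin m) (Fin n) F := Matrix.of fun k i => (b k i) ^ q

theorem Jm_mulVec (b : Fin m → (Fin n → F)) (c : Fin m → F) : Jm b *ᵥ c = ∑ k, c k • b k := by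
  funext i
  simp only [Jm, Matrix.mulVec, dotProduct, Matrix.of_apply, Finset.sum_apply, Pi.smul_apply, smul_eq_mul]
  exact Finset.sum_congr rfl fun k _ => mul_comm _ _

theorem Pm_mulVec (b : Fin m → (Fin n → F)) (v : Fin n → F) (k : Fin m) : (Pm q b *ᵥ v) k = hermForm n F q v (b k) := by
  rw [herm_def]
  simp only [Pm, Matrix.mulVec, dotProduct, Matrix.of_apply]
  exact Finset.sum_congr rfl fun k _ => mul_comm _ _

variable {b : Fin m → (Fin n → F)}

theorem ON.PJ (hb : ON q b) : Pm q b * Jm b = 1 := by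
  apply Matrix.mulVec_injective
  funext c
  rw [← Matrix.mulVec_mulVec, Matrix.one_mulVec, Jm_mulVec]
  funext k
  rw [Pm_mulVec]
  exact herm_sum_smul_left hb c k

theorem ON.PJ_mulVec (hb : ON q b) (c : Fin m → F) : Pm q b *ᵥ (Jm b *ᵥ c) = c := by
  rw [Matrix.mulVec_mulVec, hb.PJ, Matrix.one_mulVec]

/-- the extension of a matrix -/
def Em (q : ℕ) (b : Fin m → (Fin n → F)) (M : Matrix (Fin m) (Fin m) F) : Matrix (Fin n) (Fin n) F :=
  1 + Jm b * (M - 1) * Pm q b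

theorem Em_mulVec (M : Matrix (Fin m) (Fin m) F) (v : Fin n → F) :
    Em q b M *ᵥ v = v + Jm b *ᵥ (M *ᵥ (Pm q b *ᵥ v) - Pm q b *ᵥ v) := by
  rw [Em, Matrix.add_mulVec, Matrix.one_mulVec, ← Matrix.mulVec_mulVec, ← Matrix.mulVec_mulVec, Matrix.sub_mulVec,
    Matrix.one_mulVec]

theorem Em_one : Em q b 1 = 1 := by
  rw [Em, sub_self, Matrix.mul_zero, Matrix.zero_mul, add_zero]

theorem ON.P_Em (hb : ON q b) (M : Matrix (Fin m) (Fin m) F) (v : Fin n → F) :
    Pm q b *ᵥ (Em q b M *ᵥ v) = M *ᵥ (Pm q b *ᵥ v) := by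
  rw [Em_mulVec, Matrix.mulVec_add, hb.PJ_mulVec]
  abel

theorem ON.Em_J (hb : ON q b) (M : Matrix (Fin m) (Fin m) F) (c : Fin m → F) :
    Em q b M *ᵥ (Jm b *ᵥ c) = Jm b *ᵥ (M *ᵥ c) := by
  rw [Em_mulVec, hb.PJ_mulVec, Matrix.mulVec_sub]
  abel

theorem Em_of_P (M : Matrix (Fin m) (Fin m) F) {v : Fin n → F} (hv : Pm q b *ᵥ v = 0) : Em q b M *ᵥ v = v := by
  rw [Em_mulVec, hv, Matrix.mulVec_zero, sub_zero, Matrix.mulVec_zero, add_zero]

theorem ON.Em_mul (hb : ON q b) (M N : Matrix (Fin m) (Fin m) F) : Em q b (M * N) = Em q b M * Em q b N := by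
  apply Matrix.mulVec_injective
  funext v
  rw [← Matrix.mulVec_mulVec, Em_mulVec (M := M), hb.P_Em, Em_mulVec, Em_mulVec, ← Matrix.mulVec_mulVec]
  simp only [Matrix.mulVec_sub]
  abel

theorem ON.det_Em (hb : ON q b) (M : Matrix (Fin m) (Fin m) F) : (Em q b M).det = M.det := by
  rw [Em, Matrix.det_one_add_mul_comm, ← Matrix.mul_assoc, hb.PJ, Matrix.one_mul]
  congr 1
  abel

variable [Fintype F] (hF : Fintype.card F = q ^ 2)

include hF

theorem herm_J (c : Fin m → F) (v : Fin n → F) :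
    hermForm n F q (Jm b *ᵥ c) v = hermForm m F q c (Pm q b *ᵥ v) := by
  rw [Jm_mulVec, herm_sum_left, herm_def]
  apply Finset.sum_congr rfl
  intro k _
  rw [herm_smul_left, Pm_mulVec, ← herm_swap hF]

theorem herm_J' (c : Fin m → F) (v : Fin n → F) :
    hermForm n F q v (Jm b *ᵥ c) = hermForm m F q (Pm q b *ᵥ v) c := by
  rw [Jm_mulVec, herm_sum_right hF, herm_def]
  apply Finset.sum_congr rfl
  intro k _
  rw [herm_smul_right, Pm_mulVec, mul_comm]

theorem ON.herm_Em (hb : ON q b) {M : Matrix (Fin m) (Fin m) F}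
    (hM : ∀ u v, hermForm m F q (M *ᵥ u) (M *ᵥ v) = hermForm m F q u v) (u v : Fin n → F) :
    hermForm n F q (Em q b M *ᵥ u) (Em q b M *ᵥ v) = hermForm n F q u v := by
  have h1 : ∀ u, Em q b M *ᵥ u = (u - Jm b *ᵥ (Pm q b *ᵥ u)) + Jm b *ᵥ (M *ᵥ (Pm q b *ᵥ u)) := by
    intro u
    rw [Em_mulVec, Matrix.mulVec_sub]
    abel
  have h2 : ∀ u, Pm q b *ᵥ (u - Jm b *ᵥ (Pm q b *ᵥ u)) = 0 := by
    intro u
    rw [Matrix.mulVec_sub, hb.PJ_mulVec, sub_self]
  have h3 : hermForm n F q u v = hermForm n F q (u - Jm b *ᵥ (Pm q b *ᵥ u)) (v - Jm b *ᵥ (Pm q b *ᵥ v)) +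
      hermForm m F q (Pm q b *ᵥ u) (Pm q b *ᵥ v) := by
    have e : u = (u - Jm b *ᵥ (Pm q b *ᵥ u)) + Jm b *ᵥ (Pm q b *ᵥ u) := by abel
    have e' : v = (v - Jm b *ᵥ (Pm q b *ᵥ v)) + Jm b *ᵥ (Pm q b *ᵥ v) := by abel
    nth_rewrite 1 [e]
    nth_rewrite 1 [e']
    rw [herm_add_left, herm_add_right hF, herm_add_right hF, herm_J hF, herm_J hF, herm_J' hF, h2, h2,
      herm_zero_left, herm_zero_right hF, hb.PJ_mulVec]
    ring
  rw [h1, h1, herm_add_left, herm_add_right hF, herm_add_right hF, herm_J hF, herm_J hF, herm_J' hF, h2, h2,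
    herm_zero_left, herm_zero_right hF, hb.PJ_mulVec, hM, h3]
  ring

end Cfsg.Agent.H22.DPU
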