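import Cfsg.Agent.H715.PDU.Bound
import Cfsg.Agent.H22.DPi.OmB
import Cfsg.Agent.S0280

/-!
# `PSU_m(q)` is not `PSL_3(2)`, `PSL_5(2)` (helper22)
-/

set_option autoImplicit false

namespace Cfsg.Agent.H22.DPU

open Cfsg Cfsg.Agent.LieClassical.HermBasic

variable {F : Type} [Field F] [Fintype F] {m q p : ℕ}

theorem exists_pf (hF : Fintype.card F = q ^ 2) (hp : p.Prime) [CharP F p] : ∃ f : ℕ, f ≠ 0 ∧ q = p ^ f := by
  obtain ⟨k, hk1, hk2⟩ := FiniteField.card F p
  rw [hF] at hk2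
  obtain ⟨f, hf1, hf2⟩ := (Nat.dvd_prime_pow hp).1 (show q ∣ p ^ (k : ℕ) by rw [← hk2]; exact dvd_pow_self q two_ne_zero)
  refine ⟨f, ?_, hf2⟩
  rintro rfl
  have := two_le hF
  rw [pow_zero] at hf2
  omega

theorem pow_dvd (hF : Fintype.card F = q ^ 2) (hm : 3 ≤ m) (hp : p.Prime) {f : ℕ} (hf : f ≠ 0) (hq : q = p ^ f) :
    p ^ (f * (m * (m - 1) / 2)) ∣ Nat.card (PSU m F q) := by
  have h1 := H715.PDU.v_PSU hF hm hp hf hq
  have h2 : (Nat.card (PSU m F q)).factorization p = f * (m * (m - 1) / 2) := h1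
  rw [← h2]
  exact Nat.ordProj_dvd _ _

/-- `PSL_3(2)` -/
theorem not_psl_three (hF : Fintype.card F = q ^ 2) (hm : 3 ≤ m) (h32 : ¬ (m = 3 ∧ q = 2)) (hp : p.Prime) [CharP F p]
    (h : Nat.card (PSU m F q) ∣ 168) : False := by
  obtain ⟨f, hf, hq⟩ := exists_pf hF hp
  have h1 := (pow_dvd hF hm hp hf hq).trans h
  have hm2 : 3 ≤ m * (m - 1) / 2 := by
    have : 3 * 2 ≤ m * (m - 1) := Nat.mul_le_mul hm (by omega)
    omega
  obtain ⟨N, hN⟩ : ∃ N, N = m * (m - 1) / 2 := ⟨_, rfl⟩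
  rw [← hN] at h1 hm2
  have h2 : p ^ 3 ∣ 168 := (pow_dvd_pow p (by nlinarith [Nat.one_le_iff_ne_zero.2 hf])).trans h1
  have h3 := Nat.le_of_dvd (by norm_num) h2
  have h4 : p < 6 := by
    by_contra hc
    have : 6 ^ 3 ≤ p ^ 3 := Nat.pow_le_pow_left (by omega) 3
    omega
  have h5 := hp.two_le
  have h6 : p = 2 := by
    interval_cases p
    · rfl
    · norm_num at h2
    · norm_num at h2
    · norm_num at h2
  subst h6
  have h7 : f * N ≤ 3 := by
    by_contra hc
    have h8 : 2 ^ 4 ∣ 168 := (pow_dvd_pow 2 (by omega)).trans h1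
    norm_num at h8
  have hf1 : f = 1 := by
    have : f * 3 ≤ f * N := Nat.mul_le_mul_left f hm2
    omega
  subst hf1
  have hm3 : m = 3 := by
    by_contra hc
    have : 4 * 3 ≤ m * (m - 1) := Nat.mul_le_mul (by omega) (by omega)
    omega
  exact h32 ⟨hm3, by rw [hq]; norm_num⟩

/-- `PSL_5(2)` -/
theorem not_psl_five (hF : Fintype.card F = q ^ 2) (hm : 3 ≤ m) (h32 : ¬ (m = 3 ∧ q = 2)) (hp : p.Prime) [CharP F p]
    (h : Nat.card (PSU m F q) ∣ 9999360) : False := by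
  obtain ⟨f, hf, hq⟩ := exists_pf hF hp
  have h1 := (pow_dvd hF hm hp hf hq).trans h
  have hm2 : 3 ≤ m * (m - 1) / 2 := by
    have : 3 * 2 ≤ m * (m - 1) := Nat.mul_le_mul hm (by omega)
    omega
  obtain ⟨N, hN⟩ : ∃ N, N = m * (m - 1) / 2 := ⟨_, rfl⟩
  rw [← hN] at h1 hm2
  have h2 : p ^ 3 ∣ 9999360 := (pow_dvd_pow p (by nlinarith [Nat.one_le_iff_ne_zero.2 hf])).trans h1
  have h3 : p ∣ 9999360 := (dvd_pow_self p three_ne_zero).trans h2
  have h5 := hp.two_le
  have h6 : p = 2 := by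
    have e : (9999360 : ℕ) = 2 ^ 10 * 3 ^ 2 * 5 * 7 * 31 := by norm_num
    rw [e] at h3
    rcases (Nat.Prime.dvd_mul hp).1 h3 with h3 | h3
    · rcases (Nat.Prime.dvd_mul hp).1 h3 with h3 | h3
      · rcases (Nat.Prime.dvd_mul hp).1 h3 with h3 | h3
        · rcases (Nat.Prime.dvd_mul hp).1 h3 with h3 | h3
          · exact (Nat.prime_dvd_prime_iff_eq hp Nat.prime_two).1 (hp.dvd_of_dvd_pow h3)
          · rw [(Nat.prime_dvd_prime_iff_eq hp Nat.prime_three).1 (hp.dvd_of_dvd_pow h3)] at h2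
            norm_num at h2
        · rw [(Nat.prime_dvd_prime_iff_eq hp Nat.prime_five).1 h3] at h2
          norm_num at h2
      · rw [(Nat.prime_dvd_prime_iff_eq hp (by norm_num)).1 h3] at h2
        norm_num at h2
    · rw [(Nat.prime_dvd_prime_iff_eq hp (by norm_num)).1 h3] at h2
      norm_num at h2
  subst h6
  have h7 : f * N ≤ 10 := by
    by_contra hc
    have h8 : 2 ^ 11 ∣ 9999360 := (pow_dvd_pow 2 (by omega)).trans h1
    norm_num at h8
  have hf3 : f ≤ 3 := by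
    have : f * 3 ≤ f * N := Nat.mul_le_mul_left f hm2
    omega
  have hm5 : m ≤ 5 := by
    by_contra hc
    have h9 : 6 * 5 ≤ m * (m - 1) := Nat.mul_le_mul (by omega) (by omega)
    have h10 : 1 * N ≤ f * N := Nat.mul_le_mul_right N (Nat.one_le_iff_ne_zero.2 hf)
    omega
  have h0 := Cfsg.Agent.S0280.result hF m (by omega)
  have key : ∀ {u : ℕ}, u.Prime → ¬ u ∣ 9999360 → (u : ℕ).Coprime (Nat.gcd m (q + 1)) → (u : ℕ).Coprime (q + 1) →
      u ∣ q ^ (m * (m - 1) / 2) * ∏ i ∈ Finset.range m, (if Even i then q ^ (i + 1) + 1 else q ^ (i + 1) - 1) → False := by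
    intro u hu hn hc1 hc2 hd
    rw [← h0] at hd
    have h11 := hc2.dvd_of_dvd_mul_left (hc1.dvd_of_dvd_mul_left hd)
    exact hn (h11.trans h)
  interval_cases m
  · interval_cases f
    · exact hf rfl
    · exact h32 ⟨rfl, by rw [hq]; norm_num⟩
    · subst hq
      refine key (u := 13) (by norm_num) (by norm_num) (by norm_num) (by norm_num) ?_
      norm_num [Finset.prod_range_succ, Nat.even_iff]
    · subst hq
      refine key (u := 19) (by norm_num) (by norm_num) (by norm_num) (by norm_num) ?_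
      norm_num [Finset.prod_range_succ, Nat.even_iff]
  · have hf1 : f = 1 := by norm_num at hN; subst hN; omega
    subst hf1 hq
    have h12 : Nat.card (PSU 4 F (2 ^ 1)) = 25920 := by
      norm_num [Finset.prod_range_succ, Nat.even_iff] at h0
      norm_num
      omega
    rw [h12] at h
    norm_num at h
  · have hf1 : f = 1 := by norm_num at hN; subst hN; omega
    subst hf1 hq
    refine key (u := 11) (by norm_num) (by norm_num) (by norm_num) (by norm_num) ?_
    norm_num [Finset.prod_range_succ, Nat.even_iff]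

end Cfsg.Agent.H22.DPU
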