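import Cfsg.Agent.H22.DPU.Ext
import Cfsg.Agent.H22.DPU.Core
import Cfsg.Agent.H22.DPU.NilTwo
import Cfsg.Agent.H22.DPU.Ord
import Cfsg.Agent.ClassicalGeometry.PSUAutMain

/-!
# S4247, row PSU: an invariant orthogonal decomposition is impossible (helper22)
-/

set_option autoImplicit false
set_option linter.unusedSectionVars false

namespace Cfsg.Agent.H22.DPU

open Cfsg Matrix Module Cfsg.Agent.LieClassical.HermBasic Cfsg.Agent.LieClassical.HermSiegel
  Cfsg.Agent.LieClassical.HermGen Cfsg.Agent.ClassicalGeometry.HermOrtho Cfsg.Agent.H988.CPi Cfsg.Agent.H571.RV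
  Cfsg.Agent.H817.DPi Cfsg.Agent.H380.RV Cfsg.Agent.H553.RV Cfsg.Agent.H715.DPU
open Cfsg.Agent.ClassicalGeometry.PSUAutBasic (pr pr_surjective pr_eq_one_iff exists_center_mul
  exists_scalar_of_mem_center)
open Cfsg.Agent.ClassicalGeometry.PSUAutCount (gm gm_mul gm_one gm_inj herm_gm gm_inv_mulVec gm_mulVec_inv toAut
  semiConj act_semiConj herm_semi)
open Cfsg.Agent.ClassicalGeometry.PSUAutMain (toAut_pr' exists_toAut)

section geo

variable {F : Type*} [Field F] [Fintype F] {q n m : ℕ} (hF : Fintype.card F = q ^ 2) {W : Submodule F (Fin n → F)}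

include hF in
/-- the orthogonal space of the orthogonal space -/
theorem perp_perp (hnd : ∀ u ∈ W, (∀ v ∈ W, hermForm n F q u v = 0) → u = 0) :
    hermPerp q (hermPerp q (W : Set (Fin n → F)) : Set (Fin n → F)) = W := by
  apply le_antisymm
  · intro v hv
    obtain ⟨w, hw, u, hu, rfl⟩ := exists_add_perp hF W hnd v
    have hu0 : u = 0 := by
      apply hermPerp_nondeg hF W hnd u hu
      intro x hx
      have h1 := hv x hx
      rw [herm_add_left, herm_eq_zero_swap hF (hx w hw), zero_add] at h1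
      exact h1
    rw [hu0, add_zero]
    exact hw
  · intro w hw v hv
    exact herm_eq_zero_swap hF (hv w hw)

/-- an injective map of a finite set into itself -/
theorem surj_of {U : Submodule F (Fin n → F)} {s : (Fin n → F) → (Fin n → F)} (hs : Function.Injective s)
    (hU : ∀ x ∈ U, s x ∈ U) : ∀ y ∈ U, ∃ x ∈ U, s x = y := by
  have hinj : Function.Injective (fun x : U => (⟨s x, hU x x.2⟩ : U)) := fun a b hab =>
    Subtype.ext (hs (congrArg Subtype.val hab))
  have hfin : Finite U := inferInstance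
  intro y hy
  obtain ⟨x, hx⟩ := (Finite.surjective_of_injective hinj) ⟨y, hy⟩
  exact ⟨x, x.2, congrArg Subtype.val hx⟩

/-- conjugation and `fixS` -/
theorem fix_conj {U : Submodule F (Fin n → F)} {α : MulAut (SU n F q)} {s : (Fin n → F) → (Fin n → F)}
    (hs : Function.Injective s) (hact : ∀ g x, act (α g) (s x) = s (act g x)) (hU : ∀ x ∈ U, s x ∈ U)
    (g : SU n F q) : α g ∈ fixS q U ↔ g ∈ fixS q U := by
  rw [mem_fixS, mem_fixS]
  constructor
  · intro h x hx
    apply hs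
    rw [← hact]
    exact h _ (hU x hx)
  · intro h y hy
    obtain ⟨x, hx, rfl⟩ := surj_of hs hU y hy
    rw [hact, h x hx]

/-- invariance of the orthogonal space -/
theorem inv_perp {s : (Fin n → F) → (Fin n → F)} (hs : Function.Injective s) {τ : F ≃+* F}
    (hh : ∀ u v, hermForm n F q (s u) (s v) = τ (hermForm n F q u v)) (hW : ∀ x ∈ W, s x ∈ W) :
    ∀ x ∈ hermPerp q (W : Set (Fin n → F)), s x ∈ hermPerp q (W : Set (Fin n → F)) := by
  intro x hx w hw
  obtain ⟨y, hy, rfl⟩ := surj_of hs hW w hw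
  rw [hh, hx y hy, map_zero]

/-- the semilinear map -/
def sm (A : GU n F q) (τ : F ≃+* F) (x : Fin n → F) : Fin n → F := gm A *ᵥ fun i => τ (x i)

theorem sm_injective (A : GU n F q) (τ : F ≃+* F) : Function.Injective (sm A τ) := by
  intro x y h
  have h1 : gm A⁻¹ *ᵥ sm A τ x = gm A⁻¹ *ᵥ sm A τ y := by rw [h]
  rw [sm, sm, gm_inv_mulVec, gm_inv_mulVec] at h1
  funext i
  exact τ.injective (congrFun h1 i)

theorem act_injective (g : SU n F q) : Function.Injective (act g) := by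
  intro x y h
  rw [← act_inv_act g x, h, act_inv_act]

end geo

section main

variable {F : Type} [Field F] [Fintype F] {n q p : ℕ} {π : Set ℕ} (hF : Fintype.card F = q ^ 2)
  {P : Subgroup (PSU n F q)} {K B : Subgroup (MulAut (PSU n F q))} {H : Subgroup (GU n F q)}

include hF in
/-- the swap of two orthogonal unit vectors -/
theorem exists_swap {x y : Fin n → F} (hx : hermForm n F q x x = 1) (hy : hermForm n F q y y = 1)
    (hxy : hermForm n F q x y = 0) : ∃ g : SU n F q, act g y = -x := by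
  have hb : ON q ![x, y] := by
    intro i j
    fin_cases i <;> fin_cases j
    · simpa using hx
    · simpa using hxy
    · simpa using herm_eq_zero_swap hF hxy
    · simpa using hy
  let M : Matrix (Fin 2) (Fin 2) F := !![0, -1; 1, 0]
  have hM : ∀ u v, hermForm 2 F q (M *ᵥ u) (M *ᵥ v) = hermForm 2 F q u v := by
    intro u v
    simp only [herm_def, Fin.sum_univ_two, M, Matrix.mulVec, dotProduct, Matrix.of_apply, Matrix.cons_val', Matrix.cons_val_zero,
      Matrix.cons_val_one, Matrix.cons_val_fin_one]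
    have h1 : (0 * v 0 + -1 * v 1) ^ q = -(v 1 ^ q) := by
      rw [← neg_pow_q hF]
      congr 1
      ring
    have h2 : (1 * v 0 + 0 * v 1) ^ q = v 0 ^ q := by
      congr 1
      ring
    rw [h1, h2]
    ring
  refine ⟨⟨⟨Em q ![x, y] M, by rw [hb.det_Em]; simp [M]⟩, (LieClassical.SUBasic.mem_SU_iff _).2 (hb.herm_Em hF hM)⟩, ?_⟩
  show Em q ![x, y] M *ᵥ y = -x
  have h1 : y = Jm ![x, y] *ᵥ ![0, 1] := by
    rw [Jm_mulVec]
    simp
  nth_rewrite 2 [h1]
  rw [hb.Em_J]
  rw [Jm_mulVec]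
  simp [M, Matrix.mulVec, dotProduct]

/-- invariance of `W` under `H` and `K` -/
structure Inv (K : Subgroup (MulAut (PSU n F q))) (H : Subgroup (GU n F q)) (W : Submodule F (Fin n → F)) : Prop where
  nd : ∀ u ∈ W, (∀ v ∈ W, hermForm n F q u v = 0) → u = 0
  h : ∀ g ∈ H, ∀ w ∈ W, gm g *ᵥ w ∈ W
  k : ∀ (A : GU n F q) (τ : F ≃+* F), toAut A τ ∈ K → Sv A τ W

include hF in
theorem Inv.perp {W : Submodule F (Fin n → F)} (I : Inv K H W) : Inv K H (hermPerp q (W : Set (Fin n → F))) where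
  nd := hermPerp_nondeg hF W I.nd
  h g hg := by
    refine inv_perp (s := fun x => gm g *ᵥ x) (τ := RingEquiv.refl F) ?_ (fun u v => herm_gm g u v) (I.h g hg)
    intro x y hxy
    have h1 : gm g⁻¹ *ᵥ (gm g *ᵥ x) = gm g⁻¹ *ᵥ (gm g *ᵥ y) := congrArg (fun v => gm g⁻¹ *ᵥ v) hxy
    rwa [gm_inv_mulVec, gm_inv_mulVec] at h1
  k A τ hk := inv_perp (sm_injective A τ) (fun u v => herm_semi A τ u v) (I.k A τ hk)

theorem ne_zero_of (hp : p.Prime) [CharP F p] (hpπ : p ∉ π) : ∀ r ∈ π, r.Prime → (r : F) ≠ 0 := by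
  intro r hr hrp h0
  have h1 := (CharP.cast_eq_zero_iff F p r).1 h0
  have h2 := (Nat.prime_dvd_prime_iff_eq hp hrp).1 h1
  exact hpπ (h2 ▸ hr)

theorem pi0_of (h2 : 2 ∉ π) (hp : p.Prime) [CharP F p] (hpπ : p ∉ π) {N : ℕ} (h : PiN π N) :
    PiN (Cfsg.Agent.H572.RV.Pi0 F) N := by
  intro r hr hd
  have h1 := h r hr hd
  refine ⟨?_, ne_zero_of (F := F) hp hpπ r h1 hr⟩
  rcases hr.eq_two_or_odd' with h3 | h3
  · exact (h2 (h3 ▸ h1)).elim
  · exact h3

/-- elements of `GU` of determinant one -/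
def toSU {m : ℕ} (X : Subgroup (GU m F q)) (hX : ∀ g ∈ X, (g.1.1 : Matrix (Fin m) (Fin m) F).det = 1) : X →* SU m F q where
  toFun g := ⟨⟨gm (g : GU m F q), hX g g.2⟩, (LieClassical.SUBasic.mem_SU_iff _).2 (fun u v => herm_gm (g : GU m F q) u v)⟩
  map_one' := Subtype.ext (Subtype.ext rfl)
  map_mul' _ _ := Subtype.ext (Subtype.ext rfl)

theorem toSU_injective {m : ℕ} (X : Subgroup (GU m F q)) (hX : ∀ g ∈ X, (g.1.1 : Matrix (Fin m) (Fin m) F).det = 1) :
    Function.Injective (toSU X hX) := by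
  intro g h hgh
  have h1 : gm (g : GU m F q) = gm (h : GU m F q) := congrArg (fun x : SU m F q => mat x) hgh
  exact Subtype.ext (gm_inj h1)

include hF in
/-- the case `q = 2`, `m = 3` -/
theorem nil_three_two (h2 : 2 ∉ π) (hq : q = 2) (X : Subgroup (GU 3 F q)) (hX : PiN π (Nat.card X))
    (hX1 : ∀ g ∈ X, (g.1.1 : Matrix (Fin 3) (Fin 3) F).det = 1) : Group.IsNilpotent X := by
  subst hq
  have h0 := Cfsg.Agent.S0278.result hF 3 (by norm_num)
  have h1 : Nat.card (SU 3 F 2) = 216 := by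
    norm_num [Finset.prod_range_succ, Nat.even_iff] at h0
    omega
  have h3 : Nat.card X ∣ 216 := by
    rw [← h1]
    exact Subgroup.card_dvd_of_injective _ (toSU_injective X hX1)
  have h4 : IsPGroup 3 X := by
    have h5 : (Nat.card X).Coprime (2 ^ 3) := by
      apply Nat.Coprime.pow_right
      rw [Nat.coprime_comm, Nat.prime_two.coprime_iff_not_dvd]
      exact fun hd => h2 (hX 2 Nat.prime_two hd)
    have h6 : Nat.card X ∣ 3 ^ 3 := h5.dvd_of_dvd_mul_left (by norm_num; exact h3)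
    obtain ⟨k, -, hk⟩ := (Nat.dvd_prime_pow Nat.prime_three).1 h6
    have : Fact (Nat.Prime 3) := ⟨Nat.prime_three⟩
    exact IsPGroup.of_card hk
  have : Fact (Nat.Prime 3) := ⟨Nat.prime_three⟩
  exact h4.isNilpotent

include hF in
/-- **the `π`-subgroups of `SU(W)` are nilpotent** -/
theorem su_nil (hn : 3 ≤ n) (h32 : ¬ (n = 3 ∧ q = 2)) (hp : p.Prime) [CharP F p] (hpπ : p ∉ π) (hE : EX π)
    (hc : Cfg π P K B) (hI : IH π P K) (hU : Up π P H) {W : Submodule F (Fin n → F)} (hW1 : W ≠ ⊤) (I : Inv K H W)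
    {m : ℕ} (hm : finrank F W = m) (X : Subgroup (GU m F q)) (hX : PiN π (Nat.card X))
    (hX1 : ∀ g ∈ X, (g.1.1 : Matrix (Fin m) (Fin m) F).det = 1) : Group.IsNilpotent X := by
  by_cases hm2 : m ≤ 2
  · let ρ : Representation F X (Fin m → F) := (Cfsg.Agent.H170.HL.rep (incU m F q)).comp X.subtype
    have hinj : Function.Injective ρ :=
      (Cfsg.Agent.H170.HL.rep_injective incU_injective).comp X.subtype_injective
    exact nil_two hinj (by rw [finrank_fin_fun]; exact hm2) (pi0_of hc.two hp hpπ hX)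
  by_cases hm32 : m = 3 ∧ q = 2
  · obtain ⟨rfl, hq⟩ := hm32
    exact nil_three_two hF hc.two hq X hX hX1
  have hm3 : 3 ≤ m := by omega
  obtain ⟨b, hbW, hb⟩ := exists_orthonormal hF W I.nd hm
  have hB : Bs q W b := ⟨hb, hbW, hm⟩
  obtain ⟨W', hW'⟩ : ∃ W', W' = hermPerp q (W : Set (Fin n → F)) := ⟨_, rfl⟩
  have I' : Inv K H W' := by rw [hW']; exact I.perp hF
  have hW'0 : W' ≠ ⊥ := by
    intro h
    apply hW1
    have h1 := finrank_hermPerp_of_nondeg hF W I.nd
    rw [← hW', h, finrank_bot, add_zero] at h1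
    apply Submodule.eq_top_of_finrank_eq
    rw [finrank_fin_fun, h1]
  have hW0 : W ≠ ⊥ := by
    intro h
    rw [h, finrank_bot] at hm
    omega
  obtain ⟨y, hy, hyy⟩ := exists_norm_one_vector hF W' I'.nd hW'0
  obtain ⟨x, hx, hxx⟩ := exists_norm_one_vector hF W I.nd hW0
  have hy0 : y ≠ 0 := by
    rintro rfl
    rw [herm_zero_left] at hyy
    exact zero_ne_one hyy
  have hxy : hermForm n F q x y = 0 := by
    rw [hW'] at hy
    exact herm_eq_zero_swap hF (hy x hx)
  obtain ⟨M, hM⟩ : ∃ M, M = (fixS q W').map (pr n F q) := ⟨_, rfl⟩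
  -- `M ≠ ⊤`
  have hMt : M ≠ ⊤ := by
    intro hMt
    obtain ⟨g, hg⟩ := exists_swap hF hxx hyy hxy
    have h1 : pr n F q g ∈ M := by rw [hMt]; exact Subgroup.mem_top _
    rw [hM] at h1
    obtain ⟨h, hh, hgh⟩ := h1
    obtain ⟨z, hz, hzg⟩ := exists_center_mul hgh
    obtain ⟨c, hc0, -, hcz⟩ := exists_scalar_of_mem_center hF hn hz
    have h2 : act g y = c • y := by
      rw [hzg, act_mul, hcz, act_smul, hh y hy]
    rw [hg] at h2
    have h3 : hermForm n F q x x = 0 := by
      have h4 : x = -(c • y) := by rw [← h2, neg_neg]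
      nth_rewrite 2 [h4]
      rw [herm_neg_right hF, herm_smul_right, hxy, mul_zero, neg_zero]
    rw [h3] at hxx
    exact zero_ne_one hxx
  -- `P` normalises `M`
  have hPM : P ≤ Subgroup.normalizer (M : Set (PSU n F q)) := by
    intro a ha
    obtain ⟨g, hgH, rfl⟩ := (hU.mem a).1 ha
    have h1 : ∀ h : SU n F q, MulAut.conj g h ∈ fixS q W' ↔ h ∈ fixS q W' := by
      refine fix_conj (s := act g) (act_injective g) ?_ ?_
      · intro h v
        rw [MulAut.conj_apply, act_mul, act_mul, act_inv_act]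
      · intro v hv
        exact I'.h _ hgH v hv
    rw [Subgroup.mem_normalizer_iff]
    intro z
    rw [hM]
    constructor
    · rintro ⟨h, hh, rfl⟩
      refine ⟨g * h * g⁻¹, (h1 h).2 hh, ?_⟩
      rw [map_mul, map_mul, map_inv]
    · rintro ⟨h, hh, hhz⟩
      refine ⟨g⁻¹ * h * g, (h1 _).1 ?_, ?_⟩
      · rw [MulAut.conj_apply]
        have e : g * (g⁻¹ * h * g) * g⁻¹ = h := by group
        rw [e]
        exact hh
      · rw [map_mul, map_mul, map_inv, hhz]
        group
  -- `K` stabilises `M`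
  have hKM : K ≤ stab M := by
    intro k hk
    obtain ⟨A, τ, rfl⟩ := exists_toAut hF hn h32 k
    have h1 : ∀ h : SU n F q, semiConj A τ h ∈ fixS q W' ↔ h ∈ fixS q W' :=
      fix_conj (s := sm A τ) (sm_injective A τ) (fun h v => act_semiConj A τ h v) (I'.k A τ hk)
    rw [mem_stab, hM]
    ext z
    constructor
    · rintro ⟨_, ⟨h, hh, rfl⟩, rfl⟩
      exact ⟨semiConj A τ h, (h1 h).2 hh, (toAut_pr' A τ h).symm⟩
    · rintro ⟨h, hh, rfl⟩
      obtain ⟨h', rfl⟩ := (semiConj A τ).surjective h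
      exact ⟨pr n F q h', ⟨h', (h1 h').1 hh, rfl⟩, toAut_pr' A τ h'⟩
  -- the structure of `M`
  have hinj : Function.Injective ((pr n F q).comp (extS hF hb)) := by
    rw [injective_iff_map_eq_one]
    intro g hg
    obtain ⟨c, hc0, -, hcz⟩ := exists_scalar_of_mem_center hF hn (pr_eq_one_iff.1 hg)
    have h1 : extS hF hb g ∈ fixS q W' := by
      rw [hW', ← hB.range_extS hF I.nd]
      exact ⟨g, rfl⟩
    have h2 := h1 y hy
    rw [hcz] at h2
    have hc1 : c = 1 := by
      have h3 : (c - 1) • y = 0 := by rw [sub_smul, one_smul, h2, sub_self]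
      exact sub_eq_zero.1 ((smul_eq_zero.1 h3).resolve_right hy0)
    apply extS_injective hF hb
    rw [map_one]
    apply ext_act
    intro v
    rw [hcz, hc1, one_smul, act_one]
  have hrange : ((pr n F q).comp (extS hF hb)).range = M := by
    rw [MonoidHom.range_comp, hB.range_extS hF I.nd, hM, hW']
  have e : SU m F q ≃* ↥M := (MonoidHom.ofInjective hinj).trans (MulEquiv.subgroupCongr hrange)
  have eX : (↥M ⧸ Subgroup.center ↥M) ≃* PSU m F q := Cfsg.Agent.LieClassical.OrthFinite.quotientCenterCongr e.symm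
  have hsP : IsSimpleGroup (PSU m F q) := Cfsg.Agent.S0283.result hF m hm3 hm32
  have hs : IsSimpleGroup (↥M ⧸ Subgroup.center ↥M) := eX.isSimpleGroup
  have hna : ¬ IsMulCommutative (↥M ⧸ Subgroup.center ↥M) := Cfsg.Agent.CpAut.Fix.not_comm_quot
  have hLie : IsLieTypeChar p (↥M ⧸ Subgroup.center ↥M) :=
    Or.inr (Or.inr (Or.inl ⟨F, inferInstance, inferInstance, inferInstance, m, q, hF, hm3, hm32, ⟨eX⟩⟩))
  have hnil : Cls π (↥M ⧸ Subgroup.center ↥M) →
      ∀ P' : Subgroup (↥M ⧸ Subgroup.center ↥M), IsPiHall π P' → Group.IsNilpotent P' := by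
    intro hcls
    rcases hE _ hna hc.two p hp hpπ hLie hcls with h | ⟨⟨f⟩⟩ | ⟨⟨f⟩⟩
    · exact h
    · exfalso
      refine not_psl_three hF hm3 hm32 hp ?_
      rw [← Nat.card_congr eX.toEquiv, Nat.card_congr f.toEquiv]
      exact Cfsg.Agent.H22.DPi.card_psl_three
    · exfalso
      refine not_psl_five hF hm3 hm32 hp ?_
      rw [← Nat.card_congr eX.toEquiv, Nat.card_congr f.toEquiv]
      exact Cfsg.Agent.H22.DPi.card_psl_five
  let φ : X →* ↥M := e.toMonoidHom.comp (toSU X hX1)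
  have hφ : Function.Injective φ := e.injective.comp (toSU_injective X hX1)
  have h1 : Group.IsNilpotent φ.range := by
    refine nil_of_core hc.hall hI hMt hPM hKM hs hna hnil φ.range ?_
    rw [← Nat.card_congr (MonoidHom.ofInjective hφ).toEquiv]
    exact hX
  exact nil_of_injective (f := (MonoidHom.ofInjective hφ).toMonoidHom) (MonoidHom.ofInjective hφ).injective h1

include hF in
/-- **Task B: an invariant orthogonal decomposition is impossible.** -/
theorem part_b (hn : 3 ≤ n)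
    (h32 : ¬ (n = 3 ∧ q = 2)) (hp : p.Prime) [CharP F p] (hpπ : p ∉ π) (hE : EX π) (hN : NilGU π)
    (hc : Cfg π P K B) (hI : IH π P K)
    (hU : Up π P H) {W : Submodule F (Fin n → F)} (hW0 : W ≠ ⊥) (hW1 : W ≠ ⊤)
    (hnd : Nd q W) (hH : ∀ g ∈ H, ∀ w ∈ W, gm g *ᵥ w ∈ W)
    (hK : ∀ (A : GU n F q) (τ : F ≃+* F), toAut A τ ∈ K → Sv A τ W) : False := by
  have I : Inv K H W := ⟨hnd, hH, hK⟩
  obtain ⟨W', hW'⟩ : ∃ W', W' = hermPerp q (W : Set (Fin n → F)) := ⟨_, rfl⟩
  have I' : Inv K H W' := by rw [hW']; exact I.perp hF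
  have hW'1 : W' ≠ ⊤ := by
    intro h
    apply hW0
    rw [Submodule.eq_bot_iff]
    intro w hw
    apply herm_nondeg hF
    intro v
    have h1 : v ∈ W' := by rw [h]; exact Submodule.mem_top
    rw [hW'] at h1
    exact herm_eq_zero_swap hF (h1 w hw)
  have hr := ne_zero_of (F := F) hp hpπ
  obtain ⟨m, hm⟩ : ∃ m, finrank F W = m := ⟨_, rfl⟩
  obtain ⟨m', hm'⟩ : ∃ m', finrank F W' = m' := ⟨_, rfl⟩
  have h1 := hN F m q hF hc.two hr (fun X hX hX1 => su_nil hF hn h32 hp hpπ hE hc hI hU hW1 I hm X hX hX1)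
  have h2 := hN F m' q hF hc.two hr (fun X hX hX1 => su_nil hF hn h32 hp hpπ hE hc hI hU hW'1 I' hm' X hX hX1)
  obtain ⟨b, hbW, hb⟩ := exists_orthonormal hF W I.nd hm
  have hB : Bs q W b := ⟨hb, hbW, hm⟩
  obtain ⟨b', hbW', hb'⟩ := exists_orthonormal hF W' I'.nd hm'
  have hB' : Bs q W' b' := ⟨hb', hbW', hm'⟩
  have hPr : ∀ g ∈ H, Pr q b (gm g) := fun g hg => hB.pr (I.h g hg)
  have hPr' : ∀ g ∈ H, Pr q b' (gm g) := fun g hg => hB'.pr (I'.h g hg)
  -- `H` is nilpotent
  have hHn : Group.IsNilpotent H := by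
    have n1 : Group.IsNilpotent (rG hF hb H hPr).range :=
      h1 _ (PiN.of_dvd hU.hall.1 (Subgroup.card_range_dvd _))
    have n2 : Group.IsNilpotent (rG hF hb' H hPr').range :=
      h2 _ (PiN.of_dvd hU.hall.1 (Subgroup.card_range_dvd _))
    let φ : H →* (rG hF hb H hPr).range × (rG hF hb' H hPr').range :=
      (rG hF hb H hPr).rangeRestrict.prod (rG hF hb' H hPr').rangeRestrict
    have hφ : Function.Injective φ := by
      rw [injective_iff_map_eq_one]
      intro h hh
      have e1 : rG hF hb H hPr h = 1 := congrArg (fun x => ((x.1 : (rG hF hb H hPr).range) : GU m F q)) hh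
      have e2 : rG hF hb' H hPr' h = 1 := congrArg (fun x => ((x.2 : (rG hF hb' H hPr').range) : GU m' F q)) hh
      apply Subtype.ext
      apply gm_inj
      apply Matrix.mulVec_injective
      funext v
      obtain ⟨w, hw, u, hu, rfl⟩ := exists_add_perp hF W I.nd v
      rw [← hW'] at hu
      rw [Subgroup.coe_one, gm_one, Matrix.one_mulVec, Matrix.mulVec_add, ← hB.JP hw, ← hB'.JP hu,
        rG_eq_one hF hb H hPr e1, rG_eq_one hF hb' H hPr' e2]
    have := Group.isNilpotent_prod (G₁ := (rG hF hb H hPr).range) (G₂ := (rG hF hb' H hPr').range)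
    exact nil_of_injective hφ this
  -- `P` is nilpotent
  apply hc.nnil
  obtain ⟨R, hR⟩ : ∃ R : Subgroup (SU n F q), ∀ x, x ∈ R ↔ jU n F q x ∈ H := ⟨H.comap (jU n F q), fun _ => Iff.rfl⟩
  have hRn : Group.IsNilpotent R := by
    let ψ : R →* H := ((jU n F q).comp R.subtype).codRestrict H (fun x => (hR x).1 x.2)
    have hψ : Function.Injective ψ := by
      intro a b hab
      have h3 : jU n F q a = jU n F q b := congrArg (fun x : H => (x : GU n F q)) hab
      apply Subtype.ext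
      exact Subtype.ext (Subtype.ext (congrArg (fun x : GU n F q => x.1.1) h3))
    exact nil_of_injective hψ hHn
  let θ : R →* P := ((pr n F q).comp R.subtype).codRestrict P (fun x => by
    rw [hU.mem]
    exact ⟨x, (hR x).1 x.2, rfl⟩)
  have hθ : Function.Surjective θ := by
    rintro ⟨a, ha⟩
    obtain ⟨g, hg, hga⟩ := (hU.mem a).1 ha
    exact ⟨⟨g, (hR g).2 hg⟩, Subtype.ext hga⟩
  exact nil_of_surj hθ hRn

end main

end Cfsg.Agent.H22.DPU
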